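import Cfsg.Agent.Lib.Lead.Mil.Root
import Cfsg.Prelude.Def_ChevE6
import Cfsg.Prelude.Def_ChevE7
import Cfsg.Prelude.Def_ChevE8

/-!
# Ladder CEN (S1079): the sub-root-systems E6, E7 of E8 (the tables are literally sub-tables, no sign change)
-/

set_option autoImplicit false

namespace Cfsg.Agent.Lib.Lead.Mil

open Cfsg.Lie

/-- index in the E8 table of the E6 root with the same coordinates (padded by zeros) -/
def iotaE6 (r : ℕ) : ℕ :=
  (#[35, 45, 51, 54, 55, 61, 64, 65, 68, 69, 70, 73, 74, 75, 76, 77, 83, 86, 87, 90, 91, 92, 95, 96, 97, 98, 101,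
    102, 103, 104, 107, 108, 109, 112, 113, 116, 123, 126, 127, 130, 131, 132, 135, 136, 137, 138, 141, 142, 143,
    144, 147, 148, 149, 152, 153, 156, 162, 163, 164, 165, 166, 169, 170, 171, 174, 175, 178, 184, 185, 188, 194,
    204] : Array ℕ).getD r 0

/-- index in the E8 table of the E7 root with the same coordinates (padded by a zero) -/
def iotaE7 (r : ℕ) : ℕ :=
  (#[13, 20, 25, 29, 32, 34, 35, 39, 42, 44, 45, 48, 50, 51, 53, 54, 55, 58, 60, 61, 63, 64, 65, 67, 68, 69, 70, 72,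
    73, 74, 75, 76, 77, 80, 82, 83, 85, 86, 87, 89, 90, 91, 92, 94, 95, 96, 97, 98, 100, 101, 102, 103, 104, 106,
    107, 108, 109, 111, 112, 113, 115, 116, 118, 121, 123, 124, 126, 127, 128, 130, 131, 132, 133, 135, 136, 137,
    138, 139, 141, 142, 143, 144, 145, 147, 148, 149, 150, 152, 153, 154, 156, 157, 159, 162, 163, 164, 165, 166,
    167, 169, 170, 171, 172, 174, 175, 176, 178, 179, 181, 184, 185, 186, 188, 189, 191, 194, 195, 197, 200, 204,
    205, 207, 210, 214, 219, 226] : Array ℕ).getD r 0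

/-- table facts on the embedding -/
structure EmbTab (D : ChevalleyDatum) (ι : ℕ → ℕ) : Prop where
  rank_le : D.rank ≤ 8
  lt : ∀ r < D.nroots, ι r < chevE8.nroots
  neg : ∀ r < D.nroots, ι (D.neg r) = chevE8.neg (ι r)
  simple : ∀ i < D.rank, ι (D.simple i) = chevE8.simple i
  ip : ∀ r < D.nroots, ∀ s < D.nroots, ip chevE8 (ι r) (ι s) = ip D r s
  vec : ∀ r < D.nroots, ∀ i < 8, vec chevE8 (ι r) i = if i < D.rank then vec D r i else 0
  ct : ∀ r < D.nroots, ∀ s < D.nroots, ∀ (k : ℕ) (c : ℤ), D.commTerms r s = [(k, c, 1, 1)] →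
    chevE8.commTerms (ι r) (ι s) = [(ι k, c, 1, 1)]

end Cfsg.Agent.Lib.Lead.Mil
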